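import Mathlib.RingTheory.KrullDimension.Basic
import Mathlib.RingTheory.Ideal.Height
import Mathlib.RingTheory.Ideal.KrullsHeightTheorem
import Mathlib.RingTheory.Localization.Away.Basic
import Mathlib.RingTheory.Localization.AtPrime.Basic

/-!
# Primes maximal off a hypersurface of a local ring
-/

set_option autoImplicit false
set_option linter.style.haveILetI false

universe u

open IsLocalRing

namespace GrothLib.FewEq21

/-- In a Noetherian local domain an element in every nonzero prime bounds the dimension by one. -/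
theorem krullDimLE_one_of_forall_mem {D : Type u} [CommRing D] [IsDomain D] [IsLocalRing D] [IsNoetherianRing D]
    (t : D) (ht : t ≠ 0) (h : ∀ Q : Ideal D, Q.IsPrime → Q ≠ ⊥ → t ∈ Q) : Ring.KrullDimLE 1 D := by
  classical
  refine Ring.krullDimLE_one_iff_of_noZeroDivisors.2 fun Q hQ hQp => ?_
  by_contra hmax
  have hQm : Q < maximalIdeal D := lt_of_le_of_ne (le_maximalIdeal hQp.ne_top) fun he =>
    hmax (he ▸ maximalIdeal.isMaximal D)
  haveI := hQp
  haveI : (⊥ : Ideal D).IsPrime := Ideal.isPrime_bot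
  have h3 := Ideal.height_add_one_le_of_lt_of_isPrime (bot_lt_iff_ne_bot.2 hQ : (⊥ : Ideal D) < Q)
  have h4 := Ideal.height_add_one_le_of_lt_of_isPrime hQm
  have hm2 : (2 : ℕ∞) ≤ (maximalIdeal D).height :=
    le_trans (le_trans (by norm_num) (add_le_add (le_trans le_add_self h3) le_rfl)) h4
  have hfin : (Ideal.span {t}).minimalPrimes.Finite := Ideal.finite_minimalPrimes_of_isNoetherianRing D _
  obtain ⟨y, hym, hy⟩ : ∃ y ∈ maximalIdeal D, ∀ V ∈ hfin.toFinset, y ∉ V := by
    by_contra hcon
    push Not at hcon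
    have hsub : ((maximalIdeal D : Ideal D) : Set D) ⊆ ⋃ V ∈ (↑hfin.toFinset : Set (Ideal D)), (V : Set D) :=
      fun x hx => by
        obtain ⟨V, hV, hxV⟩ := hcon x hx
        exact Set.mem_biUnion hV hxV
    obtain ⟨V, hV, hle⟩ := (Ideal.subset_union_prime ⊥ ⊥
      (fun P hP _ _ => (hfin.mem_toFinset.1 hP).1.1)).1 hsub
    have hV' := hfin.mem_toFinset.1 hV
    haveI := hV'.1.1
    have h1 := Ideal.height_le_one_of_isPrincipal_of_mem_minimalPrimes (Ideal.span {t}) V hV'
    rw [← (maximalIdeal.isMaximal D).eq_of_le hV'.1.1.ne_top hle] at h1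
    exact absurd (hm2.trans h1) (by decide)
  obtain ⟨V₀, hV₀⟩ := Ideal.nonempty_minimalPrimes (I := Ideal.span {t}) fun htop => by
    refine hQp.ne_top (top_le_iff.1 (htop ▸ (Ideal.span_singleton_le_iff_mem _).2 (h Q hQp hQ)))
  have hy0 : y ≠ 0 := fun h0 => hy V₀ (hfin.mem_toFinset.2 hV₀) (h0 ▸ V₀.zero_mem)
  obtain ⟨W, hW, -⟩ := Ideal.exists_minimalPrimes_le (J := maximalIdeal D)
    ((Ideal.span_singleton_le_iff_mem _).2 hym)
  haveI := hW.1.1
  have hyW : y ∈ W := hW.1.2 (Ideal.mem_span_singleton_self y)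
  have hW0 : W ≠ ⊥ := fun h0 => hy0 (by rw [h0] at hyW; simpa using hyW)
  obtain ⟨V, hV, hVW⟩ := Ideal.exists_minimalPrimes_le (J := W)
    ((Ideal.span_singleton_le_iff_mem _).2 (h W hW.1.1 hW0))
  haveI := hV.1.1
  have hV0 : V ≠ ⊥ := fun h0 => ht (by
    have := hV.1.2 (Ideal.mem_span_singleton_self t)
    rw [h0] at this
    simpa using this)
  rcases hVW.eq_or_lt with rfl | hlt
  · exact hy V (hfin.mem_toFinset.2 hV) hyW
  · have h5 := Ideal.height_add_one_le_of_lt_of_isPrime (bot_lt_iff_ne_bot.2 hV0 : (⊥ : Ideal D) < V)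
    have h6 := Ideal.height_add_one_le_of_lt_of_isPrime hlt
    have h7 : (2 : ℕ∞) ≤ W.height := le_trans (le_trans (by norm_num) (add_le_add (le_trans le_add_self h5) le_rfl)) h6
    exact absurd (h7.trans (Ideal.height_le_one_of_isPrincipal_of_mem_minimalPrimes (Ideal.span {y}) W hW)) (by decide)

/-- A maximal ideal off a hypersurface of a local ring has coheight at most one. -/
theorem krullDimLE_one_of_isMaximal_away {A : Type u} [CommRing A] [IsLocalRing A] [IsNoetherianRing A] (t : A)
    (P : Ideal (Localization.Away t)) [P.IsMaximal] :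
    Ring.KrullDimLE 1 (A ⧸ P.comap (algebraMap A (Localization.Away t))) := by
  let p := P.comap (algebraMap A (Localization.Away t))
  haveI : p.IsPrime := Ideal.IsPrime.comap _
  haveI : IsDomain (A ⧸ p) := (Ideal.Quotient.isDomain_iff_prime p).2 inferInstance
  haveI : IsLocalRing (A ⧸ p) := IsLocalRing.of_surjective' _ Ideal.Quotient.mk_surjective
  have htp : t ∉ p := fun h => (Ideal.IsPrime.ne_top (inferInstance : P.IsPrime))
    (P.eq_top_of_isUnit_mem h (IsLocalization.Away.algebraMap_isUnit t))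
  refine krullDimLE_one_of_forall_mem (Ideal.Quotient.mk p t)
    (fun h => htp (Ideal.Quotient.eq_zero_iff_mem.1 h)) fun Q hQ hQ0 => ?_
  by_contra htQ
  haveI := hQ
  let Q' := Q.comap (Ideal.Quotient.mk p)
  have hpQ : p ≤ Q' := fun x hx => by
    rw [Ideal.mem_comap, Ideal.Quotient.eq_zero_iff_mem.2 hx]
    exact zero_mem Q
  have hdisj : Disjoint (Submonoid.powers t : Set A) (Q' : Set A) :=
    (Ideal.disjoint_powers_iff_notMem_of_isPrime t).2 htQ
  haveI := IsLocalization.isPrime_of_isPrime_disjoint (Submonoid.powers t) (Localization.Away t) Q' inferInstance hdisj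
  have heq : P = Q'.map (algebraMap A (Localization.Away t)) := by
    refine (inferInstance : P.IsMaximal).eq_of_le (Ideal.IsPrime.ne_top inferInstance) ?_
    rw [← IsLocalization.map_under (Submonoid.powers t) (Localization.Away t) P]
    exact Ideal.map_mono hpQ
  refine hQ0 ?_
  have hQp : Q' = p := by
    rw [← IsLocalization.comap_map_of_isPrime_disjoint (Submonoid.powers t) (Localization.Away t)
      (inferInstance : Q'.IsPrime) hdisj, ← heq]
  rw [← Ideal.map_comap_of_surjective _ Ideal.Quotient.mk_surjective Q, show Q.comap _ = p from hQp,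
    Ideal.map_quotient_self]

end GrothLib.FewEq21
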