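import Groth.Agent.Lib.FEt21.Clopen
import Groth.Agent.Lib.FEt21.Basic
import Groth.Agent.Lib.FEt21.Colimits
import Groth.Agent.PunctPure21.Basic
import Mathlib.AlgebraicGeometry.Morphisms.UniversallyOpen
import Mathlib.AlgebraicGeometry.Morphisms.Flat

/-!
# Clopen subsets of covers descend along faithfully flat maps
-/

set_option autoImplicit false
set_option linter.style.haveILetI false
set_option backward.isDefEq.respectTransparency false

universe u

open CategoryTheory CategoryTheory.Limits AlgebraicGeometry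

namespace GrothLib.FewEq21

open GrothLib.FEt21

/-- An open immersion with full restriction functor has all clopen subsets of covers. -/
theorem clopenSurj_of_equiv {X U : Scheme.{u}} (j : U ⟶ X) [IsOpenImmersion j]
    [(FEt.restrict j).IsEquivalence] (A : FEt.Cat X) : ClopenSurj j A := by
  intro C hC
  let P := (FEt.restrict j).obj A
  let W : P.left.Opens := ⟨C, hC.2⟩
  let V : FEt.Cat U := mkOf P W.ι (prop_ι W hC.1)
  let i : V ⟶ P := MorphismProperty.Over.homMk W.ι rfl
  let Z := (FEt.restrict j).objPreimage V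
  let e := (FEt.restrict j).objObjPreimageIso V
  let m : Z ⟶ A := (FEt.restrict j).preimage (e.hom ≫ i)
  have hm : ((FEt.restrict j).map m).left = e.hom.left ≫ W.ι := by
    show ((FEt.restrict j).map ((FEt.restrict j).preimage (e.hom ≫ i))).left = _
    rw [Functor.map_preimage]
    rfl
  have hmf : ((FEt.restrict j).map m).left ≫ pullback.fst A.hom j = pullback.fst Z.hom j ≫ m.left :=
    pullback.lift_fst _ _ _
  obtain ⟨hfin, het⟩ := prop_left m
  haveI := hfin
  haveI := het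
  haveI : IsIso e.hom.left :=
    inferInstanceAs (IsIso ((MorphismProperty.Over.forget FEt.prop ⊤ _ ⋙ Over.forget _).map e.hom))
  refine ⟨Set.range m.left, ⟨(m.left.isClosedMap).isClosed_range, (m.left.isOpenMap).isOpen_range⟩, ?_⟩
  ext z
  constructor
  · rintro ⟨w, hw⟩
    have hz : j (pullback.snd A.hom j z) = Z.hom w := by
      have h1 : A.hom (pullback.fst A.hom j z) = j (pullback.snd A.hom j z) :=
        congrArg (fun k => (k : _ ⟶ X) z) pullback.condition
      rw [← h1, ← hw]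
      exact congrArg (fun k => (k : _ ⟶ X) w) (MorphismProperty.Over.w m)
    obtain ⟨p, hp, -⟩ := Scheme.Pullback.exists_preimage_pullback (f := Z.hom) (g := j) w _ hz.symm
    have hfm : pullback.fst A.hom j (((FEt.restrict j).map m).left p) = pullback.fst A.hom j z := by
      rw [← hw, ← hp]
      exact congrArg (fun k => (k : _ ⟶ A.left) p) hmf
    have hpz : ((FEt.restrict j).map m).left p = z := (pullback.fst A.hom j).isOpenEmbedding.injective hfm
    rw [hm] at hpz
    rw [← hpz]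
    exact (e.hom.left p).2
  · intro hz
    let p := (inv e.hom.left) (⟨z, hz⟩ : (W : Scheme.{u}))
    refine ⟨pullback.fst Z.hom j p, ?_⟩
    have h1 : ((FEt.restrict j).map m).left p = z := by
      have h2 : (inv e.hom.left ≫ ((FEt.restrict j).map m).left) = W.ι := by rw [hm, IsIso.inv_hom_id_assoc]
      exact congrArg (fun k => (k : _ ⟶ P.left) (⟨z, hz⟩ : (W : Scheme.{u}))) h2
    rw [← h1]
    exact (congrArg (fun k => (k : _ ⟶ A.left) p) hmf).symm

/-- Full faithfulness on an open descends along a faithfully flat quasi-compact map. -/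
theorem fullyFaithful_of_descent {X X' : Scheme.{u}} (f : X' ⟶ X) [Flat f] [Surjective f] [QuasiCompact f]
    (U : X.Opens) (hU : ∀ x : X, ∃ u ∈ U, u ⤳ x) [(FEt.restrict (f ⁻¹ᵁ U).ι).IsEquivalence] :
    (FEt.restrict U.ι).Full ∧ (FEt.restrict U.ι).Faithful := by
  refine fullyFaithful_of_clopen U.ι (clopenInj_of_denseRange _ ?_) fun Y C hC => ?_
  · intro x
    obtain ⟨u, hu, hux⟩ := hU x
    rw [Scheme.Opens.range_ι]
    exact closure_mono (Set.singleton_subset_iff.2 hu) hux.mem_closure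
  let Y' := (FEt.restrict f).obj Y
  let q : Y'.left ⟶ Y.left := pullback.fst Y.hom f
  let p₁ := pullback.fst Y.hom U.ι
  let p' := pullback.fst Y'.hom (f ⁻¹ᵁ U).ι
  have hover : ∀ d : Y'.left, f (Y'.hom d) = Y.hom (q d) := fun d =>
    (congrArg (fun k => (k : _ ⟶ X) d) pullback.condition).symm
  have hlift : ∀ y : Y.left, Y.hom y ∈ U → ∃ z, p₁ z = y := fun y hy => by
    obtain ⟨z, hz, -⟩ := Scheme.Pullback.exists_preimage_pullback (f := Y.hom) (g := U.ι) y ⟨_, hy⟩ rfl
    exact ⟨z, hz⟩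
  have hlift' : ∀ d : Y'.left, Y.hom (q d) ∈ U → ∃ z, p' z = d := fun d hd => by
    obtain ⟨z, hz, -⟩ := Scheme.Pullback.exists_preimage_pullback (f := Y'.hom) (g := (f ⁻¹ᵁ U).ι) d
      ⟨Y'.hom d, show f (Y'.hom d) ∈ U by rw [hover]; exact hd⟩ rfl
    exact ⟨z, hz⟩
  have hU' : ∀ z, Y.hom (q (p' z)) ∈ U := fun z => by
    rw [← hover]
    have h : Y'.hom (p' z) = (f ⁻¹ᵁ U).ι (pullback.snd Y'.hom (f ⁻¹ᵁ U).ι z) :=
      congrArg (fun k => (k : _ ⟶ X') z) pullback.condition
    rw [h]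
    exact (pullback.snd Y'.hom (f ⁻¹ᵁ U).ι z).2
  let C' : Set (pullback Y'.hom (f ⁻¹ᵁ U).ι : Scheme.{u}) := (fun z => q (p' z)) ⁻¹' (p₁ '' C)
  have hcompl : C'ᶜ = (fun z => q (p' z)) ⁻¹' (p₁ '' Cᶜ) := by
    ext z
    obtain ⟨w, hw⟩ := hlift _ (hU' z)
    constructor
    · exact fun hz => ⟨w, fun hwC => hz ⟨w, hwC, hw⟩, hw⟩
    · rintro ⟨w', hw', hqw'⟩ ⟨w'', hw'', hqw''⟩
      exact hw' (p₁.isOpenEmbedding.injective (hqw''.trans hqw'.symm) ▸ hw'')
  have hC' : IsClopen C' := by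
    refine ⟨?_, (p₁.isOpenEmbedding.isOpenMap _ hC.2).preimage (q.continuous.comp p'.continuous)⟩
    rw [← isOpen_compl_iff, hcompl]
    exact (p₁.isOpenEmbedding.isOpenMap _ hC.compl.2).preimage (q.continuous.comp p'.continuous)
  obtain ⟨D', hD', hpre⟩ := clopenSurj_of_equiv (f ⁻¹ᵁ U).ι Y' C' hC'
  have hq : Flat q := MorphismProperty.pullback_fst _ _ inferInstance
  have hqs : Surjective q := MorphismProperty.pullback_fst _ _ inferInstance
  have hqq : QuasiCompact q := MorphismProperty.pullback_fst _ _ inferInstance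
  obtain ⟨hYf, hYe⟩ := Y.prop
  haveI := hYe
  haveI := hq
  haveI := hqs
  haveI := hqq
  have hin : ∀ d : Y'.left, Y.hom (q d) ∈ U → (d ∈ D' ↔ q d ∈ p₁ '' C) := fun d hd => by
    obtain ⟨z, rfl⟩ := hlift' d hd
    exact Set.ext_iff.1 hpre z
  have hsat : q ⁻¹' (q '' D') = D' := by
    refine Set.Subset.antisymm ?_ (Set.subset_preimage_image _ _)
    rintro d' ⟨d, hd, hdd⟩
    by_contra hd'
    obtain ⟨u, hu, hux⟩ := hU (Y.hom (q d))
    obtain ⟨a₀, ha₀, ha₀u⟩ := Flat.generalizingMap Y.hom hux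
    obtain ⟨d₀, hd₀, hqd₀⟩ := Flat.generalizingMap q ha₀
    obtain ⟨d₁, hd₁, hqd₁⟩ := Flat.generalizingMap q (show a₀ ⤳ q d' from hdd ▸ ha₀)
    have h₀ : d₀ ∈ D' := hd₀.mem_open hD'.2 hd
    have h₁ : d₁ ∉ D' := hd₁.mem_open hD'.1.isOpen_compl hd'
    have hmemU : ∀ x, q x = a₀ → Y.hom (q x) ∈ U := fun x hx => by rw [hx, ha₀u]; exact hu
    refine h₁ ((hin d₁ (hmemU _ hqd₁)).2 ?_)
    rw [hqd₁, ← hqd₀]
    exact (hin d₀ (hmemU _ hqd₀)).1 h₀
  refine ⟨q '' D', ?_, ?_⟩
  · have hqm := Flat.isQuotientMap_of_surjective q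
    exact ⟨(hqm.isClosed_preimage).1 (by rw [hsat]; exact hD'.1), (hqm.isOpen_preimage).1 (by rw [hsat]; exact hD'.2)⟩
  · ext z
    obtain ⟨d, hd⟩ := q.surjective (p₁ z)
    have hdU : Y.hom (q d) ∈ U := by
      rw [hd]
      have h : Y.hom (p₁ z) = U.ι (pullback.snd Y.hom U.ι z) := congrArg (fun k => (k : _ ⟶ X) z) pullback.condition
      rw [h]
      exact (pullback.snd Y.hom U.ι z).2
    show p₁ z ∈ q '' D' ↔ z ∈ C
    rw [← hd, show q d ∈ q '' D' ↔ d ∈ q ⁻¹' (q '' D') from Iff.rfl, hsat, hin d hdU, hd,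
      p₁.isOpenEmbedding.injective.mem_set_image]

/-- An empty open does not induce an equivalence on covers of a nonempty scheme. -/
theorem nonempty_of_equiv {X : Scheme.{u}} (x : X) (U : X.Opens) [(FEt.restrict U.ι).IsEquivalence] :
    ∃ u, u ∈ U := by
  by_contra h
  push Not at h
  haveI : IsEmpty (U : Scheme.{u}) := ⟨fun u => h u.1 u.2⟩
  let T : FEt.Cat X := MorphismProperty.Over.mk ⊤ (𝟙 X) (prop_of _)
  let Z : FEt.Cat X := emptyCover X
  let pT : ((FEt.restrict U.ι).obj T).left ⟶ (U : Scheme.{u}) := ((FEt.restrict U.ι).obj T).hom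
  haveI : IsEmpty ((FEt.restrict U.ι).obj T).left := Function.isEmpty pT
  let m : (FEt.restrict U.ι).obj T ⟶ (FEt.restrict U.ι).obj Z :=
    MorphismProperty.Over.homMk (isInitialOfIsEmpty.to _) (isInitialOfIsEmpty.hom_ext _ _)
  let m' := (FEt.restrict U.ι).preimage m
  haveI : IsEmpty Z.left := inferInstanceAs (IsEmpty (∅ : Scheme.{u}))
  exact isEmptyElim (m'.left x : Z.left)

end GrothLib.FewEq21
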