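import Groth.Agent.FewEq21.Pure

/-!
# Presentations of the localizations of a quotient by few equations
-/

set_option autoImplicit false
set_option linter.style.haveILetI false
set_option backward.isDefEq.respectTransparency.types false

universe u

open IsLocalRing RingTheory.Sequence

namespace GrothLib.FewEq21

/-- The elements of a finset as a list generate the same ideal. -/
theorem ofList_toList {R : Type u} [CommRing R] (s : Finset R) : Ideal.ofList s.toList = Ideal.span (↑s : Set R) := by
  show Ideal.span {r | r ∈ s.toList} = _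
  congr 1
  ext r
  simp

/-- The localization of a quotient is a quotient of the localization. -/
theorem exists_atPrime_presentation {R : Type u} [CommRing R] (I : Ideal R) (p : Ideal (R ⧸ I)) [p.IsPrime] :
    ∃ π : Localization.AtPrime (p.comap (Ideal.Quotient.mk I)) →+* Localization.AtPrime p,
      Function.Surjective π ∧
      RingHom.ker π = I.map (algebraMap R (Localization.AtPrime (p.comap (Ideal.Quotient.mk I)))) := by
  let q : Ideal R := p.comap (Ideal.Quotient.mk I)
  have hT : Submonoid.map (Ideal.Quotient.mk I) q.primeCompl = p.primeCompl := by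
    refine SetLike.ext fun a => ?_
    constructor
    · rintro ⟨b, hb, rfl⟩
      exact hb
    · intro ha
      obtain ⟨b, rfl⟩ := Ideal.Quotient.mk_surjective a
      exact ⟨b, ha, rfl⟩
  let πq : Localization.AtPrime q →+* Localization.AtPrime p :=
    IsLocalization.map (M := q.primeCompl) (T := p.primeCompl) (Localization.AtPrime p)
      (Ideal.Quotient.mk I) (fun b hb => hb)
  refine ⟨πq, ?_, (IsLocalization.ker_map (S := Localization.AtPrime q) (Localization.AtPrime p) _ hT).trans
    (by rw [Ideal.mk_ker])⟩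
  haveI : IsLocalization (q.primeCompl.map (Ideal.Quotient.mk I)) (Localization.AtPrime p) := by
    rw [hT]; infer_instance
  exact IsLocalization.map_surjective_of_surjective _ _ _ Ideal.Quotient.mk_surjective

/-- A natural number for a finite dimension. -/
theorem exists_dim_eq (A : Type u) [CommRing A] [IsLocalRing A] [IsNoetherianRing A] :
    ∃ a : ℕ, ringKrullDim A = (a : WithBot ℕ∞) ∧ (maximalIdeal A).height = (a : ℕ∞) := by
  obtain ⟨x, hx⟩ := WithBot.ne_bot_iff_exists.1 (ringKrullDim_ne_bot (R := A))
  have : x ≠ ⊤ := fun h => by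
    have hlt := ringKrullDim_lt_top (R := A)
    rw [← hx, h] at hlt
    exact lt_irrefl _ hlt
  obtain ⟨a, rfl⟩ := ENat.ne_top_iff_exists.1 this
  refine ⟨a, hx.symm, WithBot.coe_injective ?_⟩
  rw [IsLocalRing.maximalIdeal_height_eq_ringKrullDim, ← hx]

/-- Either many more variables than equations, or a complete intersection: few equations in both cases. -/
theorem exists_few_atPrime {R : Type u} [CommRing R] [IsRegularLocalRing R] (s : Finset R) (c : ℕ)
    (hc : ringKrullDim R = ringKrullDim (R ⧸ Ideal.span (↑s : Set R)) + (c : WithBot ℕ∞))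
    (Q : Ideal (R ⧸ Ideal.span (↑s : Set R))) [Q.IsPrime] (hQ : (3 : ℕ∞) ≤ Q.height)
    (hci : Q.height + (c : ℕ∞) ≤ ((2 + s.card : ℕ) : ℕ∞) → CInt.IsRegularIdeal ((Ideal.span (↑s : Set R)).map
      (algebraMap R (Localization.AtPrime (Q.comap (Ideal.Quotient.mk (Ideal.span (↑s : Set R)))))))) :
    ∃ rs : List (Localization.AtPrime (Q.comap (Ideal.Quotient.mk (Ideal.span (↑s : Set R))))),
      (∀ y ∈ rs, y ∈ maximalIdeal _) ∧
      Ideal.ofList rs = (Ideal.span (↑s : Set R)).map (algebraMap R _) ∧
      ((rs.length + 3 : ℕ) : WithBot ℕ∞) ≤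
        ringKrullDim (Localization.AtPrime (Q.comap (Ideal.Quotient.mk (Ideal.span (↑s : Set R))))) := by
  let I : Ideal R := Ideal.span (↑s : Set R)
  let q : Ideal R := Q.comap (Ideal.Quotient.mk I)
  let L := Localization.AtPrime q
  haveI : IsRegularLocalRing L := Groth.Agent.S0564.result R q
  obtain ⟨π, hπ, hker⟩ := exists_atPrime_presentation I Q
  by_cases hcase : Q.height + (c : ℕ∞) ≤ ((2 + s.card : ℕ) : ℕ∞)
  · have hreg := hci hcase
    rw [← hker] at hreg
    obtain ⟨rs, hm, heq, hlen⟩ := exists_few_of_isRegularIdeal L (Localization.AtPrime Q) π hπ hreg 3 (by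
      rw [IsLocalization.AtPrime.ringKrullDim_eq_height Q (Localization.AtPrime Q)]
      exact WithBot.coe_le_coe.2 hQ)
    exact ⟨rs, hm, heq.symm.trans hker, hlen⟩
  · refine ⟨s.toList.map (algebraMap R L), fun y hy => ?_, ?_, ?_⟩
    · obtain ⟨w, hw, rfl⟩ := List.mem_map.1 hy
      rw [IsLocalization.AtPrime.to_map_mem_maximal_iff L q w]
      show Ideal.Quotient.mk I w ∈ Q
      rw [Ideal.Quotient.eq_zero_iff_mem.2 (show w ∈ I from Ideal.subset_span (Finset.mem_toList.1 hw))]
      exact zero_mem Q
    · rw [← Ideal.map_ofList, ofList_toList]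
    · haveI : Nontrivial (R ⧸ I) := nontrivial_of_ne _ _ fun h : (0 : R ⧸ I) = 1 =>
        (Ideal.IsPrime.ne_top (inferInstance : Q.IsPrime)) (Q.eq_top_iff_one.2 (h ▸ zero_mem Q))
      haveI : IsLocalRing (R ⧸ I) := IsLocalRing.of_surjective' _ Ideal.Quotient.mk_surjective
      obtain ⟨a, ha, -⟩ := exists_dim_eq (R ⧸ I)
      have hQa := GrothLib.AffDom.height_add_ringKrullDim_quotient_le Q
      have hform := height_add_dim q
      haveI : IsLocalRing (R ⧸ q) := SGA2Para.isLocalRing_quotient q (le_maximalIdeal (Ideal.IsPrime.ne_top inferInstance))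
      obtain ⟨b, hb, -⟩ := exists_dim_eq (R ⧸ q)
      rw [ringEquiv_quotient_prime, show ringKrullDim (R ⧸ Q.comap (Ideal.Quotient.mk (Ideal.span (↑s : Set R)))) =
        (b : WithBot ℕ∞) from hb, ha] at hQa
      rw [hb, hc, ha] at hform
      obtain ⟨h, hh⟩ : ∃ h : ℕ, Q.height = (h : ℕ∞) := by
        refine ⟨Q.height.toNat, (ENat.natCast_toNat ?_).symm⟩
        exact Ideal.height_ne_top (Ideal.IsPrime.ne_top inferInstance)
      obtain ⟨g, hg⟩ : ∃ g : ℕ, q.height = (g : ℕ∞) := by
        refine ⟨q.height.toNat, (ENat.natCast_toNat ?_).symm⟩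
        exact Ideal.height_ne_top (Ideal.IsPrime.ne_top inferInstance)
      rw [hh] at hcase hQa
      rw [hg] at hform
      rw [IsLocalization.AtPrime.ringKrullDim_eq_height q L, hg, List.length_map, Finset.length_toList]
      have h1 : h + b ≤ a := by exact_mod_cast hQa
      have h2 : g + b = a + c := by exact_mod_cast hform
      have h3 : ¬ h + c ≤ 2 + s.card := fun hle => hcase (by exact_mod_cast hle)
      rw [show ((g : ℕ∞) : WithBot ℕ∞) = ((g : ℕ) : WithBot ℕ∞) from rfl, Nat.cast_le]
      omega

end GrothLib.FewEq21
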