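import Mathlib.RingTheory.Regular.RegularSequence
import Mathlib.RingTheory.Ideal.AssociatedPrime.Localization
import Mathlib.RingTheory.Ideal.AssociatedPrime.Finiteness
import Mathlib.RingTheory.LocalRing.MaximalIdeal.Basic
import Mathlib.RingTheory.Localization.AtPrime.Basic

/-!
# Generators of an ideal in general position away from its zero locus
-/

set_option autoImplicit false
set_option linter.style.haveILetI false

universe u

open RingTheory.Sequence

namespace GrothLib.FewEq21

variable {R : Type u} [CommRing R]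

/-- A coset of an ideal avoids finitely many primes none of which contains all of it. -/
theorem exists_add_notMem (s : Finset (Ideal R)) (hs : ∀ P ∈ s, P.IsPrime) (f : R) (J : Ideal R)
    (h : ∀ P ∈ s, f ∈ P → ¬ J ≤ P) : ∃ j ∈ J, ∀ P ∈ s, f + j ∉ P := by
  classical
  induction hn : s.card using Nat.strong_induction_on generalizing s with
  | _ n ih =>
    subst hn
    by_cases hmax : ∀ P ∈ s, ∀ Q ∈ s, P ≤ Q → P = Q
    · let B := s.filter fun P => f ∈ P
      let K := J ⊓ (s.filter fun P => f ∉ P).inf id
      obtain ⟨j, hjK, hj⟩ : ∃ j ∈ K, ∀ P ∈ B, j ∉ P := by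
        by_contra hcon
        push Not at hcon
        have hsub : (K : Set R) ⊆ ⋃ P ∈ (↑B : Set (Ideal R)), (P : Set R) := fun x hx => by
          obtain ⟨P, hP, hxP⟩ := hcon x hx
          exact Set.mem_biUnion hP hxP
        obtain ⟨P, hP, hle⟩ := (Ideal.subset_union_prime ⊥ ⊥
          (fun P hP _ _ => hs P (Finset.mem_filter.1 hP).1)).1 hsub
        obtain ⟨hPs, hfP⟩ := Finset.mem_filter.1 hP
        rcases (hs P hPs).inf_le.1 (show J ⊓ (s.filter fun P => f ∉ P).inf id ≤ P from hle) with h1 | h1
        · exact h P hPs hfP h1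
        · obtain ⟨Q, hQ, hQP⟩ := (Ideal.IsPrime.inf_le' (hs P hPs)).1 h1
          obtain ⟨hQs, hfQ⟩ := Finset.mem_filter.1 hQ
          exact hfQ ((hmax Q hQs P hPs hQP).symm ▸ hfP)
      refine ⟨j, hjK.1, fun P hP hmem => ?_⟩
      by_cases hfP : f ∈ P
      · exact hj P (Finset.mem_filter.2 ⟨hP, hfP⟩) (by simpa using P.sub_mem hmem hfP)
      · refine hfP ?_
        have hjP : j ∈ P := Finset.inf_le (f := id) (Finset.mem_filter.2 ⟨hP, hfP⟩) hjK.2
        simpa using P.sub_mem hmem hjP
    · push Not at hmax
      obtain ⟨P, hP, Q, hQ, hle, hne⟩ := hmax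
      obtain ⟨j, hj, hall⟩ := ih _ (Finset.card_erase_lt_of_mem hP) (s.erase P)
        (fun T hT => hs T (Finset.mem_of_mem_erase hT)) (fun T hT => h T (Finset.mem_of_mem_erase hT)) rfl
      refine ⟨j, hj, fun T hT => ?_⟩
      by_cases hTP : T = P
      · subst hTP
        exact fun hmem => hall Q (Finset.mem_erase.2 ⟨Ne.symm hne, hQ⟩) (hle hmem)
      · exact hall T (Finset.mem_erase.2 ⟨hTP, hT⟩)

/-- Elements of `I` form a weakly regular sequence at the primes off `V(I)`. -/
def RegularOff (I : Ideal R) (gs : List R) : Prop :=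
  ∀ (p : Ideal R) [p.IsPrime], ¬ I ≤ p → Ideal.ofList gs ≤ p →
    IsWeaklyRegular (Localization.AtPrime p) (gs.map (algebraMap R (Localization.AtPrime p)))

theorem regularOff_nil (I : Ideal R) : RegularOff I [] := fun p _ _ _ => IsWeaklyRegular.nil _ _

variable [IsNoetherianRing R]

/-- An element off the relevant associated primes extends a sequence regular off `V(I)`. -/
theorem regularOff_concat {I : Ideal R} {gs : List R} (hgs : RegularOff I gs) (b : R)
    (hb : ∀ q ∈ associatedPrimes R (R ⧸ Ideal.ofList gs), ¬ I ≤ q → b ∉ q) :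
    RegularOff I (gs ++ [b]) := by
  intro p _ hI hle
  rw [Ideal.ofList_append, Ideal.ofList_singleton, sup_le_iff, Ideal.span_singleton_le_iff_mem] at hle
  let L := Localization.AtPrime p
  let K : Ideal R := Ideal.ofList gs
  rw [List.map_append, List.map_singleton, isWeaklyRegular_append_iff, isWeaklyRegular_singleton_iff,
    isSMulRegular_quotient_iff_mem_of_smul_mem]
  refine ⟨hgs p hI hle.1, fun x hx => ?_⟩
  simp only [smul_eq_mul, Ideal.mul_top] at hx ⊢
  rw [← Ideal.map_ofList] at hx ⊢
  obtain ⟨y, s, rfl⟩ := IsLocalization.exists_mk'_eq p.primeCompl x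
  rw [IsLocalization.mul_mk'_eq_mk'_of_mul, IsLocalization.mk'_mem_map_algebraMap_iff p.primeCompl] at hx
  rw [IsLocalization.mk'_mem_map_algebraMap_iff p.primeCompl]
  obtain ⟨t, ht, hty⟩ := hx
  let a : R ⧸ K := Ideal.Quotient.mk K (t * y)
  let N : Submodule R (R ⧸ K) := Submodule.span R {a}
  let C : Ideal R := Module.annihilator R N
  have hmem : ∀ r : R, r ∈ C ↔ r * (t * y) ∈ K := fun r => by
    rw [← Ideal.Quotient.eq_zero_iff_mem (I := K), show r ∈ C ↔ ∀ n : N, r • n = 0 from Module.mem_annihilator]
    constructor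
    · intro h
      have h' := congrArg Subtype.val (h ⟨a, Submodule.mem_span_singleton_self a⟩)
      simpa [a, Algebra.smul_def, map_mul] using h'
    · rintro h ⟨z, hz⟩
      obtain ⟨c, rfl⟩ := Submodule.mem_span_singleton.1 hz
      apply Subtype.ext
      show r • c • a = 0
      rw [smul_comm, show r • a = 0 by simpa [a, Algebra.smul_def, map_mul] using h, smul_zero]
  by_cases hC : C ≤ p
  · obtain ⟨q, hq, hqp⟩ := Ideal.exists_minimalPrimes_le hC
    have hass : q ∈ associatedPrimes R (R ⧸ K) :=
      associatedPrimes.subset_of_injective (f := N.subtype) N.injective_subtype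
        (Module.associatedPrimes.minimalPrimes_annihilator_subset_associatedPrimes R N hq)
    refine absurd (hq.1.2 ((hmem b).2 ?_)) (hb q hass fun h => hI (h.trans hqp))
    rwa [mul_left_comm]
  · obtain ⟨c, hc, hcp⟩ := SetLike.not_le_iff_exists.1 hC
    refine ⟨c * t, mul_mem (show c ∈ p.primeCompl from hcp) ht, ?_⟩
    rw [mul_assoc]
    exact (hmem c).1 hc

/-- An ideal has generators, as many as given, each prefix regular off `V(I)`. -/
theorem exists_generic (I : Ideal R) : ∀ fs gs : List R, RegularOff I gs → Ideal.ofList (gs ++ fs) = I →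
    ∃ hs : List R, hs.length = fs.length ∧ Ideal.ofList (gs ++ hs) = I ∧
      ∀ a c : List R, hs = a ++ c → RegularOff I (gs ++ a) := by
  classical
  intro fs
  induction fs with
  | nil =>
    intro gs hgs hI
    refine ⟨[], rfl, hI, fun a c h => ?_⟩
    rw [(List.append_eq_nil_iff.1 h.symm).1, List.append_nil]
    exact hgs
  | cons f fs ih =>
    intro gs hgs hI
    let J : Ideal R := Ideal.ofList fs
    have hfin : (associatedPrimes R (R ⧸ Ideal.ofList gs)).Finite := associatedPrimes.finite R _
    obtain ⟨j, hj, hjall⟩ := exists_add_notMem (hfin.toFinset.filter fun q => ¬ I ≤ q)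
      (fun q hq => (hfin.mem_toFinset.1 (Finset.mem_filter.1 hq).1).isPrime) f J (fun q hq hfq hJq => by
        obtain ⟨hqa, hqI⟩ := Finset.mem_filter.1 hq
        refine hqI (hI ▸ ?_)
        rw [Ideal.ofList_append, Ideal.ofList_cons]
        refine sup_le ?_ (sup_le ((Ideal.span_singleton_le_iff_mem _).2 hfq) hJq)
        have h := IsAssociatedPrime.annihilator_le (hfin.mem_toFinset.1 hqa)
        rw [Submodule.annihilator_top, Ideal.annihilator_quotient] at h
        exact h)
    have hgs' : RegularOff I (gs ++ [f + j]) := regularOff_concat hgs _ fun q hq hqI =>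
      hjall q (Finset.mem_filter.2 ⟨hfin.mem_toFinset.2 hq, hqI⟩)
    have hI' : Ideal.ofList (gs ++ [f + j] ++ fs) = I := by
      rw [← hI, Ideal.ofList_append, Ideal.ofList_append, Ideal.ofList_append, Ideal.ofList_singleton,
        Ideal.ofList_cons, sup_assoc]
      refine congrArg (Ideal.ofList gs ⊔ ·) (le_antisymm (sup_le ?_ le_sup_right) (sup_le ?_ le_sup_right))
      · exact (Ideal.span_singleton_le_iff_mem _).2
          (add_mem (Ideal.mem_sup_left (Ideal.mem_span_singleton_self f)) (Ideal.mem_sup_right hj))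
      · refine (Ideal.span_singleton_le_iff_mem _).2 ?_
        simpa using sub_mem (Ideal.mem_sup_left (Ideal.mem_span_singleton_self (f + j)))
          (Ideal.mem_sup_right (T := Ideal.ofList fs) hj)
    obtain ⟨hs, hlen, hspan, hpre⟩ := ih _ hgs' hI'
    refine ⟨(f + j) :: hs, by simp [hlen], by rwa [List.append_assoc] at hspan, fun a c h => ?_⟩
    cases a with
    | nil => simpa using hgs
    | cons x a =>
      rw [List.cons_append, List.cons_eq_cons] at h
      obtain ⟨rfl, h⟩ := h
      simpa using hpre a c h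

end GrothLib.FewEq21
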