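import Groth.Agent.FewEq21.Generic
import Groth.Agent.Lib.SGA2Para.CI
import Groth.Agent.Lib.CMModule.Chains
import Groth.Agent.Lib.DualCx22.EssFT
import Groth.Agent.S11185

/-!
# Local rings of a quotient of a regular ring at primes where the equations are regular
-/

set_option autoImplicit false
set_option linter.style.haveILetI false
set_option backward.isDefEq.respectTransparency.types false

universe u

open IsLocalRing RingTheory.Sequence

namespace GrothLib.FewEq21

variable {R : Type u} [CommRing R] [IsRegularLocalRing R]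

/-- The dimension formula in a regular local ring. -/
theorem height_add_dim (q : Ideal R) [q.IsPrime] :
    (q.height : WithBot ℕ∞) + ringKrullDim (R ⧸ q) = ringKrullDim R := by
  obtain ⟨l, hl, hlm, hlen⟩ := CMFree.exists_weaklyRegular_of_isRegularLocalRing R
  haveI := CMFree.isCohenMacaulayLocalRing_of_weaklyRegular R l hl hlm (le_of_eq hlen.symm)
  have hsupp : Module.support R R = Set.univ :=
    Module.support_eq_zeroLocus.trans (by rw [Module.annihilator_eq_bot.mpr inferInstance]; simp)
  exact (GrothLib.CMModule.localization_isCM_and_formula (M := R)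
    LocCoh.IsCohenMacaulayLocalRing.supportDim_eq_depth hsupp q).1

/-- A quotient of a regular local ring has a dualizing complex. -/
theorem exists_dualizing_quotient (I : Ideal R) : ∃ ω : Dual.D (R ⧸ I), Dual.IsDualizing (R ⧸ I) ω := by
  refine GrothLib.DualCx22.exists_dualizing_of_surjective (Ideal.Quotient.mk I) Ideal.Quotient.mk_surjective
    ⟨_, Groth.Agent.S11185.result R (fun p => Groth.Agent.S0564.result R p.asIdeal) ?_⟩
  exact ringKrullDim_lt_top

/-- The prime of `R` over a prime of the quotient. -/
theorem ringEquiv_quotient_prime (I : Ideal R) (p : Ideal (R ⧸ I)) :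
    ringKrullDim ((R ⧸ I) ⧸ p) = ringKrullDim (R ⧸ p.comap (Ideal.Quotient.mk I)) := by
  let π : R →+* (R ⧸ I) ⧸ p := (Ideal.Quotient.mk p).comp (Ideal.Quotient.mk I)
  have hπ : Function.Surjective π := Ideal.Quotient.mk_surjective.comp Ideal.Quotient.mk_surjective
  refine (ringKrullDim_eq_of_ringEquiv ((Ideal.quotEquivOfEq ?_).trans
    (RingHom.quotientKerEquivOfSurjective hπ))).symm
  rw [show RingHom.ker π = (RingHom.ker (Ideal.Quotient.mk p)).comap (Ideal.Quotient.mk I) from
    (RingHom.comap_ker _ _).symm, Ideal.mk_ker]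

/-- Where the equations are weakly regular the quotient is locally a complete intersection. -/
theorem exists_ci_model (rs : List R) (p : Ideal (R ⧸ Ideal.ofList rs)) [p.IsPrime]
    (hreg : IsWeaklyRegular (Localization.AtPrime (p.comap (Ideal.Quotient.mk (Ideal.ofList rs))))
      (rs.map (algebraMap R (Localization.AtPrime (p.comap (Ideal.Quotient.mk (Ideal.ofList rs))))))) :
    ∃ (S : Type u) (_ : CommRing S) (_ : IsRegularLocalRing S) (ss : List S)
      (π : S →+* Localization.AtPrime p),
      ss.length = rs.length ∧ (∀ z ∈ ss, z ∈ maximalIdeal S) ∧ IsWeaklyRegular S ss ∧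
      Function.Surjective π ∧ RingHom.ker π = Ideal.ofList ss ∧
      ringKrullDim S = ((p.comap (Ideal.Quotient.mk (Ideal.ofList rs))).height : WithBot ℕ∞) := by
  let I := Ideal.ofList rs
  let q : Ideal R := p.comap (Ideal.Quotient.mk I)
  haveI : IsRegularLocalRing (Localization.AtPrime q) := Groth.Agent.S0564.result R q
  have hT : Submonoid.map (Ideal.Quotient.mk I) q.primeCompl = p.primeCompl := by
    refine SetLike.ext fun a => ?_
    constructor
    · rintro ⟨b, hb, rfl⟩
      exact hb
    · intro ha
      obtain ⟨b, rfl⟩ := Ideal.Quotient.mk_surjective a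
      exact ⟨b, ha, rfl⟩
  let πq : Localization.AtPrime q →+* Localization.AtPrime p :=
    IsLocalization.map (M := q.primeCompl) (T := p.primeCompl) (Localization.AtPrime p)
      (Ideal.Quotient.mk I) (fun b hb => hb)
  have hsurj : Function.Surjective πq := by
    haveI : IsLocalization (q.primeCompl.map (Ideal.Quotient.mk I)) (Localization.AtPrime p) := by
      rw [hT]; infer_instance
    exact IsLocalization.map_surjective_of_surjective _ _ _ Ideal.Quotient.mk_surjective
  refine ⟨_, inferInstance, inferInstance, rs.map (algebraMap R (Localization.AtPrime q)), πq,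
    List.length_map _, fun z hz => ?_, hreg, hsurj, ?_,
    IsLocalization.AtPrime.ringKrullDim_eq_height q (Localization.AtPrime q)⟩
  · obtain ⟨w, hw, rfl⟩ := List.mem_map.1 hz
    rw [IsLocalization.AtPrime.to_map_mem_maximal_iff (Localization.AtPrime q) q w]
    show Ideal.Quotient.mk I w ∈ p
    rw [Ideal.Quotient.eq_zero_iff_mem.2 (show w ∈ I from Ideal.subset_span hw)]
    exact zero_mem p
  · rw [← Ideal.map_ofList (algebraMap R (Localization.AtPrime q)) rs]
    exact (IsLocalization.ker_map (S := Localization.AtPrime q) (Localization.AtPrime p) _ hT).trans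
      (by rw [Ideal.mk_ker])

/-- Dimension, depth and coheight at such a prime: depth is the dimension, and dimension plus coheight is
the expected dimension. -/
theorem depth_add_coheight (rs : List R) (p : Ideal (R ⧸ Ideal.ofList rs)) [p.IsPrime]
    (hreg : IsWeaklyRegular (Localization.AtPrime (p.comap (Ideal.Quotient.mk (Ideal.ofList rs))))
      (rs.map (algebraMap R (Localization.AtPrime (p.comap (Ideal.Quotient.mk (Ideal.ofList rs))))))) :
    ∃ a b : ℕ, ringKrullDim (Localization.AtPrime p) = (a : WithBot ℕ∞) ∧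
      ringKrullDim ((R ⧸ Ideal.ofList rs) ⧸ p) = (b : WithBot ℕ∞) ∧
      (a : ℕ∞) ≤ LocCoh.depth (Localization.AtPrime p) (Localization.AtPrime p) ∧
      ringKrullDim R = ((a + b + rs.length : ℕ) : WithBot ℕ∞) := by
  obtain ⟨S, _, _, ss, π, hlen, hm, hw, hπ, hker, hdim⟩ := exists_ci_model rs p hreg
  let q : Ideal R := p.comap (Ideal.Quotient.mk (Ideal.ofList rs))
  haveI : IsNoetherianRing (Localization.AtPrime p) :=
    IsLocalization.isNoetherianRing p.primeCompl _ inferInstance
  obtain ⟨-, -, -, hn⟩ := CMFree.exists_weaklyRegular_of_isRegularLocalRing R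
  have hform := height_add_dim q
  let e : (S ⧸ Ideal.ofList ss) ≃+* Localization.AtPrime p :=
    (Ideal.quotEquivOfEq hker.symm).trans (RingHom.quotientKerEquivOfSurjective hπ)
  have h1 := ringKrullDim_add_length_eq_ringKrullDim_of_isRegular ss
    ((IsLocalRing.isRegular_iff_isWeaklyRegular_of_subset_maximalIdeal hm).2 hw)
  rw [ringKrullDim_eq_of_ringEquiv e, hdim, hlen] at h1
  obtain ⟨a, ha⟩ : ∃ a : ℕ, ringKrullDim (Localization.AtPrime p) = (a : WithBot ℕ∞) := by
    have h0 : ringKrullDim (Localization.AtPrime p) ≠ ⊥ := ringKrullDim_ne_bot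
    obtain ⟨x, hx⟩ := WithBot.ne_bot_iff_exists.1 h0
    have : x ≠ ⊤ := fun h => by
      have hlt := ringKrullDim_lt_top (R := Localization.AtPrime p)
      rw [← hx, h] at hlt
      exact lt_irrefl _ hlt
    obtain ⟨a, rfl⟩ := ENat.ne_top_iff_exists.1 this
    exact ⟨a, hx.symm⟩
  haveI : Nontrivial (R ⧸ q) := Ideal.Quotient.nontrivial_iff.2 (Ideal.IsPrime.ne_top inferInstance)
  obtain ⟨b, hb⟩ : ∃ b : ℕ, ringKrullDim (R ⧸ q) = (b : WithBot ℕ∞) := by
    obtain ⟨x, hx⟩ := WithBot.ne_bot_iff_exists.1 (ringKrullDim_ne_bot (R := R ⧸ q))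
    have : x ≠ ⊤ := fun h => by
      have hlt := (ringKrullDim_quotient_le (R := R) q).trans_lt (ringKrullDim_lt_top (R := R))
      rw [← hx, h] at hlt
      exact lt_irrefl _ hlt
    obtain ⟨b, rfl⟩ := ENat.ne_top_iff_exists.1 this
    exact ⟨b, hx.symm⟩
  refine ⟨a, b, ha, (ringEquiv_quotient_prime _ p).trans hb,
    GrothLib.SGA2Para.le_depth_of_ci S ss hm hw _ π hπ hker a ha.ge, ?_⟩
  rw [← hform, ← h1, ha, hb]
  push_cast
  abel

end GrothLib.FewEq21
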