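import Groth.Agent.CIPure21.Main
import Groth.Agent.FewEq21.Local
import Groth.Agent.FewEq21.Curve
import Groth.Agent.LocFAdic21.EssAll
import Groth.Agent.LocFAdic21.PunctFF

/-!
# Quotients of regular local rings by few equations are pure
-/

set_option autoImplicit false
set_option linter.style.haveILetI false
set_option backward.isDefEq.respectTransparency.types false

universe u

open CategoryTheory CategoryTheory.Limits AlgebraicGeometry IsLocalRing RingTheory.Sequence

namespace GrothLib.FewEq21

/-- Restriction to the punctured spectrum is an equivalence. -/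
abbrev PunctEquiv (A : Type u) [CommRing A] [IsLocalRing A] : Prop :=
  (FEt.restrict (FEt.puncturedSpec A).ι).IsEquivalence

/-- The property passes along surjective maps with trivial kernel. -/
theorem punctEquiv_of_ringEquiv {R S : Type u} [CommRing R] [CommRing S] [IsLocalRing R] [IsLocalRing S]
    (e : R ≃+* S) (h : PunctEquiv R) : PunctEquiv S := by
  let φ : Spec (CommRingCat.of S) ⟶ Spec (CommRingCat.of R) := Spec.map (CommRingCat.ofHom e.toRingHom)
  haveI : IsIso (CommRingCat.ofHom e.toRingHom) := inferInstanceAs (IsIso e.toCommRingCatIso.hom)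
  haveI : IsIso φ := inferInstanceAs (IsIso (Spec.map _))
  have hc : φ (closedPoint S) = closedPoint R := by
    haveI : IsLocalHom e.toRingHom := IsLocalHom.of_surjective _ e.surjective
    exact IsLocalRing.comap_closedPoint _
  have hpre : φ ⁻¹ᵁ FEt.puncturedSpec R = FEt.puncturedSpec S := by
    ext p
    show φ p ≠ closedPoint R ↔ p ≠ closedPoint S
    rw [← hc]
    exact not_congr φ.isOpenEmbedding.injective.eq_iff
  let U := FEt.puncturedSpec S
  let g : (U : Scheme.{u}) ⟶ (FEt.puncturedSpec R : Scheme.{u}) :=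
    IsOpenImmersion.lift (FEt.puncturedSpec R).ι (U.ι ≫ φ) (by
      rintro _ ⟨w, rfl⟩
      rw [Scheme.Opens.range_ι]
      exact hpre.ge w.2)
  have H : IsPullback g U.ι (FEt.puncturedSpec R).ι φ :=
    IsOpenImmersion.isPullback g U.ι _ _ (IsOpenImmersion.lift_fac _ _ _).symm
      (by rw [Scheme.Opens.opensRange_ι, hpre, Scheme.Opens.opensRange_ι])
  haveI : IsIso g := H.isIso_fst_of_isIso
  haveI := PunctPure21.isEquivalence_of_isIso φ
  haveI : (FEt.restrict φ ⋙ FEt.restrict U.ι).IsEquivalence := by
    haveI := PunctPure21.isEquivalence_comp g (FEt.puncturedSpec R).ι (U.ι ≫ φ) H.w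
      (PunctPure21.isEquivalence_of_isIso g) h
    exact Functor.isEquivalence_of_iso (F := FEt.restrict (U.ι ≫ φ))
      (MorphismProperty.Over.pullbackComp (P := FEt.prop) (Q := ⊤) _ φ)
  exact Functor.isEquivalence_of_comp_left (FEt.restrict φ) _

/-- A regular local ring of dimension at least two. -/
theorem punctEquiv_of_regular (A : Type u) [CommRing A] [IsRegularLocalRing A]
    (h : (2 : WithBot ℕ∞) ≤ ringKrullDim A) : PunctEquiv A := by
  haveI : (FEt.restrict (FEt.puncturedSpec A).ι).EssSurj := Groth.Agent.S0247.result A h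
  have hd : (2 : ℕ∞) ≤ LocCoh.depth A A :=
    GrothLib.SGA2Para.le_depth_of_ci A [] (by simp) (IsWeaklyRegular.nil _ _) A (RingHom.id A)
      (fun x => ⟨x, rfl⟩) (by rw [Ideal.ofList_nil]; exact RingHom.injective_iff_ker_eq_bot _ |>.1 fun _ _ h => h)
      2 (by exact_mod_cast h)
  obtain ⟨hfull, hfaith⟩ := GrothLib.FEt21.fullyFaithful_of_depthTwo (U := FEt.puncturedSpec A) (fun y hy => by
    rw [GrothLib.FEt21.depth_stalk_Spec]
    have hy' : (y : PrimeSpectrum A) = closedPoint A := not_not.1 hy
    have hu : (y : PrimeSpectrum A).asIdeal.primeCompl ≤ IsUnit.submonoid A := fun a ha => by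
      show IsUnit a
      by_contra h
      exact ha (hy' ▸ (mem_maximalIdeal a).2 h)
    exact hd.trans_eq (HartogsQC.depth_eq_of_ringEquiv (IsLocalization.atUnits A _ hu).toRingEquiv))
  haveI := hfull
  haveI := hfaith
  exact { }

/-- The step along a hypersurface. -/
theorem punctEquiv_quotient {A : Type u} [CommRing A] [IsNoetherianRing A] [IsLocalRing A] {f : A}
    [IsAdicComplete (Ideal.span ({f} : Set A)) A] (hd : ∃ ω : Dual.D A, Dual.IsDualizing A ω)
    (hf : f ∈ maximalIdeal A)
    (hdep : ∀ p : Ideal A, ∀ _ : p.IsPrime, f ∉ p → (3 : WithBot ℕ∞) <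
      ((LocCoh.depth (Localization.AtPrime p) (Localization.AtPrime p) : ℕ∞) : WithBot ℕ∞) + ringKrullDim (A ⧸ p))
    (hp : ∀ P : Ideal (Localization.Away f), ∀ _ : P.IsMaximal, FEt.PurityHolds (Localization.AtPrime P))
    (hA : PunctEquiv A) [IsLocalRing (A ⧸ Ideal.span ({f} : Set A))] :
    PunctEquiv (A ⧸ Ideal.span ({f} : Set A)) := by
  obtain ⟨c, 𝔷, hrad, hkill⟩ := LocFAdic21.exists_killers_three hd hf
    (Or.inr fun p hp' hfp _ => hdep p hp' hfp)
  haveI := LocFAdic21.essSurj_punctured_gen hf hrad hkill hp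
  obtain ⟨hfull, hfaith⟩ := LocFAdic21.fullyFaithful_punctured hd hf fun p hp' hfp =>
    lt_trans (by norm_num) (hdep p hp' hfp)
  haveI := hfull
  haveI := hfaith
  haveI : (FEt.restrict (pullback.fst (FEt.puncturedSpec A).ι (LocFAdic21.clf A f))).IsEquivalence := { }
  let U₀ := FEt.puncturedSpec (A ⧸ Ideal.span ({f} : Set A))
  haveI : IsClosedImmersion (LocFAdic21.clf A f) := IsClosedImmersion.spec_of_surjective _ Ideal.Quotient.mk_surjective
  have hc : LocFAdic21.clf A f (closedPoint (A ⧸ Ideal.span ({f} : Set A))) = closedPoint A := by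
    haveI : IsLocalHom (Ideal.Quotient.mk (Ideal.span ({f} : Set A))) :=
      IsLocalHom.of_surjective _ Ideal.Quotient.mk_surjective
    exact IsLocalRing.comap_closedPoint _
  have hpre : LocFAdic21.clf A f ⁻¹ᵁ FEt.puncturedSpec A = U₀ := by
    ext p
    show LocFAdic21.clf A f p ≠ closedPoint A ↔ p ≠ closedPoint _
    rw [← hc]
    exact not_congr (LocFAdic21.clf A f).isClosedEmbedding.injective.eq_iff
  let a : (U₀ : Scheme.{u}) ⟶ (FEt.puncturedSpec A : Scheme.{u}) :=
    IsOpenImmersion.lift (FEt.puncturedSpec A).ι (U₀.ι ≫ LocFAdic21.clf A f) (by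
      rintro _ ⟨w, rfl⟩
      rw [Scheme.Opens.range_ι]
      exact hpre.ge w.2)
  have H : IsPullback a U₀.ι (FEt.puncturedSpec A).ι (LocFAdic21.clf A f) :=
    IsOpenImmersion.isPullback a U₀.ι _ _ (IsOpenImmersion.lift_fac _ _ _).symm
      (by rw [Scheme.Opens.opensRange_ι, hpre, Scheme.Opens.opensRange_ι])
  have ha := PunctPure21.isEquivalence_comp H.isoPullback.hom _ a H.isoPullback_hom_fst
    (PunctPure21.isEquivalence_of_isIso H.isoPullback.hom) ‹_›
  haveI : (FEt.restrict (LocFAdic21.clf A f)).IsEquivalence :=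
    GrothLib.FEt21.isEquivalence_of_henselian A (Ideal.span ({f} : Set A))
  haveI : (FEt.restrict (LocFAdic21.clf A f) ⋙ FEt.restrict U₀.ι).IsEquivalence := by
    haveI := PunctPure21.isEquivalence_comp a (FEt.puncturedSpec A).ι (U₀.ι ≫ LocFAdic21.clf A f) H.w ha hA
    exact Functor.isEquivalence_of_iso (F := FEt.restrict (U₀.ι ≫ LocFAdic21.clf A f))
      (MorphismProperty.Over.pullbackComp (P := FEt.prop) (Q := ⊤) _ _)
  exact Functor.isEquivalence_of_comp_left (FEt.restrict (LocFAdic21.clf A f)) _

/-- Each equation is regular off its zero locus modulo the previous ones. -/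
def Generic {R : Type u} [CommRing R] (rs : List R) : Prop :=
  ∀ (a : List R) (b : R) (c : List R), rs = a ++ b :: c → ∀ (p : Ideal R) [p.IsPrime],
    Ideal.ofList a ≤ p → b ∉ p →
      IsWeaklyRegular (Localization.AtPrime p) (a.map (algebraMap R (Localization.AtPrime p)))

theorem Generic.prefix {R : Type u} [CommRing R] {l l' : List R} (h : Generic (l ++ l')) : Generic l :=
  fun a b c hl => h a b (c ++ l') (by rw [hl, List.append_assoc, List.cons_append])

/-- A generic quotient of a complete regular local ring by few equations. -/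
theorem punctEquiv_few (R : Type u) [CommRing R] [IsRegularLocalRing R] [IsAdicComplete (maximalIdeal R) R]
    (rs : List R) (hm : ∀ y ∈ rs, y ∈ maximalIdeal R) (hg : Generic rs)
    (hdim : ((rs.length + 3 : ℕ) : WithBot ℕ∞) ≤ ringKrullDim R) [IsLocalRing (R ⧸ Ideal.ofList rs)] :
    PunctEquiv (R ⧸ Ideal.ofList rs) := by
  revert hm hg hdim ‹IsLocalRing (R ⧸ Ideal.ofList rs)›
  induction rs using List.reverseRecOn with
  | nil =>
    intro hm hg hdim hloc
    refine punctEquiv_of_ringEquiv ((RingEquiv.quotientBot R).symm.trans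
      (Ideal.quotEquivOfEq Ideal.ofList_nil.symm)) (punctEquiv_of_regular R (le_trans ?_ hdim))
    exact_mod_cast Nat.le_add_left 2 1
  | append_singleton l x ih =>
    intro hm hg hdim hloc
    have hl : ∀ y ∈ l, y ∈ maximalIdeal R := fun y hy => hm y (List.mem_append_left _ hy)
    haveI : IsLocalRing (R ⧸ Ideal.ofList l) := SGA2Para.isLocalRing_quotient _ (Ideal.span_le.2 hl)
    rw [List.length_append, List.length_singleton] at hdim
    let I : Ideal R := Ideal.ofList l
    let A := R ⧸ I
    let t : A := Ideal.Quotient.mk I x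
    have hxm : x ∈ maximalIdeal R := hm x (List.mem_append_right _ (List.mem_singleton_self x))
    have htm : t ∈ maximalIdeal A := by
      rw [← IsLocalRing.map_maximalIdeal_of_surjective _ Ideal.Quotient.mk_surjective]
      exact Ideal.mem_map_of_mem _ hxm
    haveI : IsLocalRing (A ⧸ Ideal.span {t}) :=
      SGA2Para.isLocalRing_quotient _ ((Ideal.span_singleton_le_iff_mem _).2 htm)
    have hA : PunctEquiv A := ih hl hg.prefix (le_trans (by exact_mod_cast Nat.le_succ _) hdim)
    haveI : IsAdicComplete (maximalIdeal A) A := by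
      rw [← IsLocalRing.map_maximalIdeal_of_surjective _ (Ideal.Quotient.mk_surjective (I := I)),
        ← Ideal.Quotient.algebraMap_eq, IsAdicComplete.map_algebraMap_iff]
      exact AdicLim.isAdicComplete_of_finite (maximalIdeal R) A
    haveI : IsAdicComplete (Ideal.span {t}) A :=
      AdicExtra.isAdicComplete_of_le ((Ideal.span_singleton_le_iff_mem _).2 htm) (Submodule.fg_span_singleton t)
    have hkey : ∀ p : Ideal A, ∀ _ : p.IsPrime, t ∉ p → ∃ a b : ℕ,
        ringKrullDim (Localization.AtPrime p) = (a : WithBot ℕ∞) ∧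
        ringKrullDim (A ⧸ p) = (b : WithBot ℕ∞) ∧
        (a : ℕ∞) ≤ LocCoh.depth (Localization.AtPrime p) (Localization.AtPrime p) ∧
        4 ≤ a + b := by
      intro p hp htp
      have hreg := hg l x [] rfl (p.comap (Ideal.Quotient.mk I))
        (fun y hy => by rw [Ideal.mem_comap, Ideal.Quotient.eq_zero_iff_mem.2 hy]; exact zero_mem p) htp
      obtain ⟨a, b, ha, hb, hd, hR⟩ := depth_add_coheight l p hreg
      refine ⟨a, b, ha, hb, hd, ?_⟩
      rw [hR, Nat.cast_le] at hdim
      omega
    have hAq := punctEquiv_quotient (f := t) (exists_dualizing_quotient I) htm (fun p hp htp => by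
        obtain ⟨a, b, -, hb, hd, h4⟩ := hkey p hp htp
        rw [hb]
        refine lt_of_lt_of_le ?_ (add_le_add (WithBot.coe_le_coe.2 hd) le_rfl)
        rw [show ((a : ℕ∞) : WithBot ℕ∞) = ((a : ℕ) : WithBot ℕ∞) from rfl, ← Nat.cast_add,
          show (3 : WithBot ℕ∞) = ((3 : ℕ) : WithBot ℕ∞) from rfl, Nat.cast_lt]
        omega) (fun P hP => by
        haveI := hP
        let p := P.comap (algebraMap A (Localization.Away t))
        haveI : p.IsPrime := Ideal.IsPrime.comap _
        have htp : t ∉ p := fun h => hP.ne_top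
          (P.eq_top_of_isUnit_mem h (IsLocalization.Away.algebraMap_isUnit t))
        obtain ⟨a, b, ha, hb, -, h4⟩ := hkey p inferInstance htp
        have hb1 : b ≤ 1 := by
          have := Ring.krullDimLE_iff.1 (krullDimLE_one_of_isMaximal_away t P)
          rw [hb] at this
          exact_mod_cast this
        have hreg := hg l x [] rfl (p.comap (Ideal.Quotient.mk I))
          (fun y hy => by rw [Ideal.mem_comap, Ideal.Quotient.eq_zero_iff_mem.2 hy]; exact zero_mem p) htp
        obtain ⟨S, _, _, ss, π, -, hms, hw, hπ, hker, -⟩ := exists_ci_model l p hreg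
        haveI : IsNoetherianRing (Localization.AtPrime p) :=
          IsLocalization.isNoetherianRing p.primeCompl _ inferInstance
        have hpp : FEt.PurityHolds (Localization.AtPrime p) :=
          CIPure21.purityHolds_of_ci ss.length S ss rfl hms hw _ π hπ hker (by
            rw [ha]
            exact_mod_cast (show 3 ≤ a by omega))
        haveI : IsLocalization.AtPrime (Localization.AtPrime P) p :=
          IsLocalization.isLocalization_isLocalization_atPrime_isLocalization
            (Submonoid.powers t) (Localization.AtPrime P) P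
        exact CIPure21.purityHolds_congr
          (IsLocalization.algEquiv p.primeCompl (Localization.AtPrime P) (Localization.AtPrime p)).toRingEquiv hpp)
      hA
    let π₂ : R →+* A ⧸ Ideal.span {t} := (Ideal.Quotient.mk _).comp (Ideal.Quotient.mk I)
    have hπ₂ : Function.Surjective π₂ := Ideal.Quotient.mk_surjective.comp Ideal.Quotient.mk_surjective
    have hker₂ : RingHom.ker π₂ = Ideal.ofList (l ++ [x]) := by
      show RingHom.ker ((Ideal.Quotient.mk (Ideal.span {t})).comp (Ideal.Quotient.mk I)) = _
      rw [← RingHom.comap_ker, Ideal.mk_ker, show Ideal.span {t} = (Ideal.span {x}).map (Ideal.Quotient.mk I) by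
        rw [Ideal.map_span, Set.image_singleton], Ideal.comap_map_of_surjective _ Ideal.Quotient.mk_surjective,
        ← RingHom.ker_eq_comap_bot, Ideal.mk_ker, Ideal.ofList_append, Ideal.ofList_singleton, sup_comm]
    exact punctEquiv_of_ringEquiv
      ((RingHom.quotientKerEquivOfSurjective hπ₂).symm.trans (Ideal.quotEquivOfEq hker₂)) hAq

end GrothLib.FewEq21
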