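import Groth.Agent.FewEq21.Main
import Groth.Agent.FewEq21.Descent
import Groth.Agent.Lib.Ratliff.Completion
import Groth.Agent.Lib.AffDom.Formula

/-!
# Purity of quotients of regular local rings by few equations
-/

set_option autoImplicit false
set_option linter.style.haveILetI false
set_option backward.isDefEq.respectTransparency.types false

universe u

open CategoryTheory CategoryTheory.Limits AlgebraicGeometry IsLocalRing RingTheory.Sequence

namespace GrothLib.FewEq21

/-- A quotient of a regular local ring by few equations has pure completion. -/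
theorem punctEquiv_completion (R : Type u) [CommRing R] [IsRegularLocalRing R] (rs : List R)
    (hm : ∀ y ∈ rs, y ∈ maximalIdeal R) (hdim : ((rs.length + 3 : ℕ) : WithBot ℕ∞) ≤ ringKrullDim R)
    (A : Type u) [CommRing A] [IsLocalRing A] [IsNoetherianRing A] (π : R →+* A) (hπ : Function.Surjective π)
    (hker : RingHom.ker π = Ideal.ofList rs) : PunctEquiv (AdicCompletion (maximalIdeal A) A) := by
  let I : Ideal R := Ideal.ofList rs
  haveI : IsLocalRing (R ⧸ I) := SGA2Para.isLocalRing_quotient I (Ideal.span_le.2 hm)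
  obtain ⟨e₁⟩ := GrothLib.Ratliff.exists_completion_congr
    ((Ideal.quotEquivOfEq hker.symm).trans (RingHom.quotientKerEquivOfSurjective hπ) : (R ⧸ I) ≃+* A)
  obtain ⟨ec⟩ := GrothLib.CIPres.nonempty_completion_quotient (R := R) I
  refine punctEquiv_of_ringEquiv e₁ ?_
  let R' := AdicCompletion (maximalIdeal R) R
  haveI : IsRegularLocalRing R' := AdicExtra.isRegularLocalRing_adicCompletion_iff.1 inferInstance
  haveI : IsAdicComplete (maximalIdeal R') R' := by
    rw [AdicCompletion.maximalIdeal_eq_map]
    exact AdicCompletion.isAdicComplete_self _ (IsNoetherian.noetherian _)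
  let ρ : R →+* R' := algebraMap R R'
  let J : Ideal R' := I.map ρ
  have hJ : Ideal.ofList (rs.map ρ) = J := (Ideal.map_ofList ρ rs).symm
  have hJm : J ≤ maximalIdeal R' := by
    rw [AdicCompletion.maximalIdeal_eq_map]
    exact Ideal.map_mono (Ideal.span_le.2 hm)
  obtain ⟨hs, hlen, hspan, hpre⟩ := exists_generic J (rs.map ρ) [] (regularOff_nil J) (by rw [List.nil_append, hJ])
  rw [List.nil_append] at hspan
  have hsJ : ∀ y ∈ hs, y ∈ J := fun y hy => hspan ▸ Ideal.subset_span hy
  have hgen : Generic hs := fun a b c habc p _ hle hb => by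
    have := hpre a (b :: c) habc
    rw [List.nil_append] at this
    exact this p (fun hJp => hb (hJp (hsJ b (by rw [habc]; simp)))) hle
  haveI : IsLocalRing (R' ⧸ Ideal.ofList hs) := SGA2Para.isLocalRing_quotient _ (hspan ▸ hJm)
  haveI : IsLocalRing (R' ⧸ J) := SGA2Para.isLocalRing_quotient _ hJm
  have h := punctEquiv_few R' hs (fun y hy => hJm (hsJ y hy)) hgen (by
    rw [hlen, List.length_map, AdicExtra.ringKrullDim_adicCompletion]
    exact hdim)
  exact punctEquiv_of_ringEquiv ec.symm (punctEquiv_of_ringEquiv (Ideal.quotEquivOfEq hspan) h)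

/-- Purity at the closed point descends from the completion. -/
theorem isPurePair_of_completion (A : Type u) [CommRing A] [IsLocalRing A] [IsNoetherianRing A]
    (hc : PunctEquiv (AdicCompletion (maximalIdeal A) A)) :
    SGA2.IsPurePair (Spec (CommRingCat.of A)) (FEt.puncturedSpec A) := by
  let A' := AdicCompletion (maximalIdeal A) A
  let ρ := algebraMap A A'
  let f : Spec (CommRingCat.of A') ⟶ Spec (CommRingCat.of A) := Spec.map (CommRingCat.ofHom ρ)
  haveI : Module.Flat A A' := AdicCompletion.flat_of_isNoetherian _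
  haveI : Module.FaithfullyFlat A A' := Module.FaithfullyFlat.of_flat_of_isLocalHom
  haveI : Flat f := by
    rw [HasRingHomProperty.Spec_iff (P := @Flat)]
    exact RingHom.flat_algebraMap_iff.2 inferInstance
  haveI : Surjective f := ⟨PrimeSpectrum.comap_surjective_of_faithfullyFlat⟩
  let U := FEt.puncturedSpec A
  have hf : f (closedPoint A') = closedPoint A := by
    haveI : IsLocalHom ρ := inferInstanceAs (IsLocalHom (algebraMap A (AdicCompletion (maximalIdeal A) A)))
    exact IsLocalRing.comap_closedPoint ρ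
  have hpre : f ⁻¹ᵁ U = FEt.puncturedSpec A' := by
    ext q
    show f q ≠ closedPoint A ↔ q ≠ closedPoint A'
    refine not_congr ⟨fun hq => PrimeSpectrum.ext (le_antisymm (le_maximalIdeal q.isPrime.ne_top) ?_),
      fun hq => by rw [hq, hf]⟩
    show maximalIdeal A' ≤ q.asIdeal
    rw [AdicCompletion.maximalIdeal_eq_map, Ideal.map_le_iff_le_comap]
    exact (congrArg PrimeSpectrum.asIdeal hq).ge
  haveI : (FEt.restrict (f ⁻¹ᵁ U).ι).IsEquivalence := by rw [hpre]; exact hc
  have hU : ∀ x : Spec (CommRingCat.of A), ∃ u ∈ U, u ⤳ x := by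
    intro x
    by_cases hx : x ∈ U
    · exact ⟨x, hx, specializes_rfl⟩
    · obtain ⟨u, hu⟩ := nonempty_of_equiv (closedPoint A' : Spec (CommRingCat.of A')) (f ⁻¹ᵁ U)
      refine ⟨f u, hu, ?_⟩
      rw [show x = closedPoint A from not_not.1 hx]
      exact IsLocalRing.specializes_closedPoint _
  obtain ⟨hfull, hfaith⟩ := fullyFaithful_of_descent f U hU
  haveI := hfull
  haveI := hfaith
  haveI : (FEt.restrict U.ι).EssSurj := CIPure21.purityHolds_of_completion A (hc.essSurj)
  exact PunctPure21.isPurePair_of_isEquivalence { }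

/-- A quotient of a regular local ring by few equations is pure at the closed point. -/
theorem isPurePair_few (R : Type u) [CommRing R] [IsRegularLocalRing R] (rs : List R)
    (hm : ∀ y ∈ rs, y ∈ maximalIdeal R) (hdim : ((rs.length + 3 : ℕ) : WithBot ℕ∞) ≤ ringKrullDim R)
    (A : Type u) [CommRing A] [IsLocalRing A] [IsNoetherianRing A] (π : R →+* A) (hπ : Function.Surjective π)
    (hker : RingHom.ker π = Ideal.ofList rs) :
    SGA2.IsPurePair (Spec (CommRingCat.of A)) (FEt.puncturedSpec A) :=
  isPurePair_of_completion A (punctEquiv_completion R rs hm hdim A π hπ hker)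

/-- A regular ideal gives a presentation by few equations. -/
theorem exists_few_of_isRegularIdeal (R : Type u) [CommRing R] [IsRegularLocalRing R] (A : Type u) [CommRing A]
    (π : R →+* A) (hπ : Function.Surjective π) (hreg : CInt.IsRegularIdeal (RingHom.ker π)) (d : ℕ)
    (hd : (d : WithBot ℕ∞) ≤ ringKrullDim A) :
    ∃ rs : List R, (∀ y ∈ rs, y ∈ maximalIdeal R) ∧ RingHom.ker π = Ideal.ofList rs ∧
      ((rs.length + d : ℕ) : WithBot ℕ∞) ≤ ringKrullDim R := by
  obtain ⟨rs, hreg, hspan⟩ := hreg
  have hm : ∀ y ∈ rs, y ∈ maximalIdeal R := fun y hy => by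
    by_contra hny
    refine hreg.top_ne_smul ?_
    rw [smul_eq_mul, Ideal.mul_top, eq_comm, Ideal.eq_top_iff_one]
    have hu : IsUnit y := not_not.1 fun h => hny ((mem_maximalIdeal y).2 h)
    exact (Ideal.eq_top_iff_one _).1 (Ideal.eq_top_of_isUnit_mem (Ideal.ofList rs) (Ideal.subset_span hy) hu)
  refine ⟨rs, hm, hspan.symm, ?_⟩
  rw [← ringKrullDim_add_length_eq_ringKrullDim_of_isRegular rs hreg,
    ringKrullDim_eq_of_ringEquiv ((Ideal.quotEquivOfEq hspan).trans (RingHom.quotientKerEquivOfSurjective hπ))]
  push_cast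
  rw [add_comm]
  exact add_le_add hd le_rfl

end GrothLib.FewEq21
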